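import Groth.Agent.Lib.CohDelta.SerreRel
import Groth.Agent.Lib.ClSub.Quot
import Groth.Agent.Lib.ProjKoszul.Surj
import Groth.Agent.Lib.Modules.DualBasis
import Groth.Agent.Lib.HomSheaf.Basic
import Groth.Agent.Lib.RefHull.Reflexive

/-!
# Surjectivity of multiplication maps from surjectivity on a divisor
-/

set_option autoImplicit false
set_option linter.style.haveILetI false

universe u

open CategoryTheory Limits AlgebraicGeometry Opposite TopologicalSpace
open CategoryTheory.Abelian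
open Groth.Agent.Lib
open Groth.Agent.Lib.TensorMod.Basic
open Groth.Agent.Lib.Modules.TensorSec
open Groth.Agent.Lib.Modules.StalkModule
open scoped TensorProduct

namespace Groth.Agent.Lib.MulRestr27.Main

noncomputable section

variable {X : Scheme.{u}} (E L : X.Modules) (I : X.IdealSheafData)

/-- `E ⊗ S`. -/
def tensorL (S : ShortComplex X.Modules) : ShortComplex X.Modules :=
  ShortComplex.mk (tmap (𝟙 E) S.f) (tmap (𝟙 E) S.g) (by
    haveI : PreservesColimitsOfSize.{0, 0} (tensorBy E) :=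
      preservesSmallestColimits_of_preservesColimits (tensorBy E)
    haveI := preservesBinaryBiproducts_of_preservesBinaryCoproducts (tensorBy E)
    haveI : (tensorBy E).Additive := Functor.additive_of_preservesBinaryBiproducts _
    have h : tmap S.f (𝟙 E) ≫ tmap S.g (𝟙 E) = 0 := (S.map (tensorBy E)).zero
    rw [← cancel_mono (comm E S.X₃).hom, zero_comp, Category.assoc, comm_natural,
      ← Category.assoc, comm_natural, Category.assoc, h, comp_zero])

theorem tensorL_shortExact {E : X.Modules} (hE : FlatMod.IsFinLocFree E)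
    {S : ShortComplex X.Modules} (hS : S.ShortExact) : (tensorL E S).ShortExact := by
  haveI := hS.mono_f
  haveI := hS.epi_g
  haveI : PreservesColimitsOfSize.{0, 0} (tensorBy E) :=
    preservesSmallestColimits_of_preservesColimits (tensorBy E)
  haveI := preservesBinaryBiproducts_of_preservesBinaryCoproducts (tensorBy E)
  haveI : (tensorBy E).Additive := Functor.additive_of_preservesBinaryBiproducts _
  haveI hep : Epi (S.map (tensorBy E)).g := inferInstanceAs (Epi ((tensorBy E).map S.g))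
  have hex' := ((Functor.preservesFiniteColimits_tfae (tensorBy E)).out 3 0).mp
    (inferInstance : PreservesFiniteColimits (tensorBy E))
  have hex : (S.map (tensorBy E)).Exact := (hex' _ hS).1
  let e : tensorL E S ≅ S.map (tensorBy E) :=
    ShortComplex.isoMk (comm E S.X₁) (comm E S.X₂) (comm E S.X₃)
      (comm_natural (𝟙 E) S.f).symm (comm_natural (𝟙 E) S.g).symm
  haveI : Mono (tensorL E S).f :=
    Modules.DualBasis.mono_tmap (Modules.DualBasis.hasDBases_of_isFinLocFree hE) S.f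
  haveI : Epi (tmap S.g (𝟙 E)) := hep
  haveI : Epi (tmap (𝟙 E) S.g) := by
    rw [show tmap (𝟙 E) S.g = (comm E S.X₂).hom ≫ tmap S.g (𝟙 E) ≫ (comm E S.X₃).inv by
      rw [← Category.assoc, Iso.eq_comp_inv]
      exact comm_natural (𝟙 E) S.g]
    infer_instance
  haveI : Epi (tensorL E S).g := ‹Epi (tmap (𝟙 E) S.g)›
  exact { exact := (ShortComplex.exact_iff_of_iso e).2 hex }

/-- Restriction to the closed subscheme. -/
def res (M : X.Modules) : M ⟶ CohB1.tensorMod M (_root_.ClSub.quotMod I) :=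
  (rightUnit M).inv ≫ tmap (𝟙 M) (_root_.ClSub.toSubscheme I)

/-- The value `1` on the closed subscheme. -/
def q : Γ(_root_.ClSub.quotMod I, ⊤) :=
  (_root_.ClSub.toSubscheme I).app ⊤ (TensorMod.Gen.one X ⊤)

theorem res_app {M : X.Modules} {U : X.Opens} (m : Γ(M, U)) :
    (res I M).app U m = tens m ((_root_.ClSub.toSubscheme I).app U (TensorMod.Gen.one X U)) := by
  show (tmap (𝟙 M) (_root_.ClSub.toSubscheme I)).app U ((rightUnit M).inv.app U m) = _
  rw [ProjKoszul.Surj.rightUnit_inv_app, tmap_tens]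
  rfl

theorem tens_eq_tmul {M N : X.Modules} {U : X.Opens} (m : Γ(M, U)) (n : Γ(N, U)) :
    tens m n = SecTwist.tmul M N U m n :=
  (HomSheaf.Basic.app_tmul_eq_pairM (𝟙 _) m n).symm

/-- The germ of `1` on the closed subscheme. -/
def qx (x : X) : (_root_.ClSub.quotMod I).presheaf.stalk x :=
  stalkMapₗ (_root_.ClSub.toSubscheme I) x ((RefHull.Reflexive.oEquiv x).symm 1)

/-- The structure map `O_x → (O/I)_x`. -/
def φx (x : X) : X.presheaf.stalk x →ₗ[X.presheaf.stalk x] (_root_.ClSub.quotMod I).presheaf.stalk x :=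
  (stalkMapₗ (_root_.ClSub.toSubscheme I) x).comp (RefHull.Reflexive.oEquiv x).symm.toLinearMap

theorem φx_surjective (x : X) : Function.Surjective (φx I x) := by
  haveI := (ClSub.Quot.idealSeq_shortExact I).epi_g
  exact ((epi_iff_stalkMapₗ_surjective (_root_.ClSub.toSubscheme I)).1
    (ClSub.Quot.idealSeq_shortExact I).epi_g x).comp (RefHull.Reflexive.oEquiv x).symm.surjective

theorem stalk_res {M : X.Modules} (x : X) (v : M.presheaf.stalk x) :
    ∃ c : (_root_.ClSub.quotMod I).presheaf.stalk x,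
      stalkMapₗ (res I M) x v = RefHull.Tensor.pair x v c ∧ c = qx I x := by
  obtain ⟨U, hx, m, rfl⟩ := TopCat.Presheaf.exists_germ_eq M.presheaf v
  refine ⟨(_root_.ClSub.quotMod I).presheaf.germ U x hx
    ((_root_.ClSub.toSubscheme I).app U (TensorMod.Gen.one X U)), ?_, ?_⟩
  · rw [stalkMapₗ_germ, RefHull.Tensor.pair_germ, res_app, tens_eq_tmul]
  · rw [qx, ← stalkMapₗ_germ]
    refine congrArg _ ?_
    rw [LinearEquiv.eq_symm_apply]
    exact germ_one hx
where
  germ_one {U : X.Opens} {x : X} (hx : x ∈ U) :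
      RefHull.Reflexive.oEquiv x
        ((Coh.structureModule X).presheaf.germ U x hx (TensorMod.Gen.one X U)) = 1 := by
    refine (AssPt.Basic.unitStalkEquiv x).symm_apply_eq.2 ?_
    rw [show AssPt.Basic.unitStalkEquiv x (1 : X.presheaf.stalk x) =
      (Coh.structureModule X).presheaf.germ ⊤ x trivial (1 : Γ(X, ⊤)) from
        (LinearMap.toSpanSingleton_apply _ _ _ _).trans (one_smul _ _)]
    refine Eq.trans (congrArg _ ?_) (TopCat.Presheaf.germ_res_apply
      (Coh.structureModule X).presheaf (homOfLE (le_top : U ≤ ⊤)) x hx (1 : Γ(X, ⊤)))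
    exact (map_one (X.presheaf.map (homOfLE (le_top : U ≤ ⊤)).op).hom).symm

theorem stalk_res' {M : X.Modules} (x : X) (v : M.presheaf.stalk x) :
    stalkMapₗ (res I M) x v = RefHull.Tensor.pair x v (qx I x) := by
  obtain ⟨c, hc, rfl⟩ := stalk_res I x v
  exact hc

/-- Multiplication on the quotient stalk. -/
theorem exists_mul (x : X) :
    ∃ μ : (_root_.ClSub.quotMod I).presheaf.stalk x ⊗[X.presheaf.stalk x]
        (_root_.ClSub.quotMod I).presheaf.stalk x →ₗ[X.presheaf.stalk x]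
        (_root_.ClSub.quotMod I).presheaf.stalk x,
      μ (qx I x ⊗ₜ qx I x) = qx I x := by
  let a : Ideal (X.presheaf.stalk x) := LinearMap.ker (φx I x)
  let ε : (X.presheaf.stalk x ⧸ a) ≃ₗ[X.presheaf.stalk x]
      (_root_.ClSub.quotMod I).presheaf.stalk x :=
    LinearMap.quotKerEquivOfSurjective (φx I x) (φx_surjective I x)
  refine ⟨ε.toLinearMap ∘ₗ LinearMap.mul' (X.presheaf.stalk x) (X.presheaf.stalk x ⧸ a) ∘ₗ
    TensorProduct.map ε.symm.toLinearMap ε.symm.toLinearMap, ?_⟩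
  have h1 : ε (Ideal.Quotient.mk a 1) = qx I x := rfl
  rw [LinearMap.comp_apply, LinearMap.comp_apply, TensorProduct.map_tmul, LinearEquiv.coe_coe,
    LinearEquiv.coe_coe, ← h1, LinearEquiv.symm_apply_apply, LinearMap.mul'_apply,
    ← map_mul, one_mul]

variable {E L}

theorem eq_zero_of_res (y : Γ(CohB1.tensorMod E L, ⊤))
    (hy : (tmap (res I E) (res I L)).app ⊤ y = 0) : (tmap (𝟙 E) (res I L)).app ⊤ y = 0 := by
  suffices h : ∀ z : Γ(CohB1.tensorMod E (CohB1.tensorMod L (_root_.ClSub.quotMod I)), ⊤),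
      (∀ x : X, (CohB1.tensorMod E (CohB1.tensorMod L (_root_.ClSub.quotMod I))).presheaf.germ ⊤ x
        trivial z = 0) → z = 0 by
    refine h _ fun x => ?_
    rw [← stalkMapₗ_germ]
    have h0 : stalkMapₗ (tmap (res I E) (res I L)) x
        ((CohB1.tensorMod E L).presheaf.germ ⊤ x trivial y) = 0 := by
      rw [stalkMapₗ_germ, hy, map_zero]
    obtain ⟨μ, hμ⟩ := exists_mul I x
    let Q := (_root_.ClSub.quotMod I).presheaf.stalk x
    let r : (CohB1.tensorMod (CohB1.tensorMod E (_root_.ClSub.quotMod I))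
          (CohB1.tensorMod L (_root_.ClSub.quotMod I))).presheaf.stalk x →ₗ[X.presheaf.stalk x]
        (CohB1.tensorMod E (CohB1.tensorMod L (_root_.ClSub.quotMod I))).presheaf.stalk x :=
      (RefHull.Tensor.tStalk E _ x).symm.toLinearMap ∘ₗ
      (LinearMap.lTensor (E.presheaf.stalk x)
        (RefHull.Tensor.tStalk L (_root_.ClSub.quotMod I) x).symm.toLinearMap) ∘ₗ
      (TensorProduct.assoc (X.presheaf.stalk x) (E.presheaf.stalk x) (L.presheaf.stalk x) Q).toLinearMap ∘ₗ
      (LinearMap.lTensor _ μ) ∘ₗ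
      (TensorProduct.tensorTensorTensorComm (X.presheaf.stalk x) (E.presheaf.stalk x) Q
        (L.presheaf.stalk x) Q).toLinearMap ∘ₗ
      (TensorProduct.map (RefHull.Tensor.tStalk E _ x).toLinearMap
        (RefHull.Tensor.tStalk L _ x).toLinearMap) ∘ₗ
      (RefHull.Tensor.tStalk (CohB1.tensorMod E (_root_.ClSub.quotMod I))
        (CohB1.tensorMod L (_root_.ClSub.quotMod I)) x).toLinearMap
    have hr : r ∘ₗ stalkMapₗ (tmap (res I E) (res I L)) x = stalkMapₗ (tmap (𝟙 E) (res I L)) x := by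
      refine HomSheaf.Basic.stalk_ext_pair fun e l => ?_
      have h1 : stalkMapₗ (tmap (res I E) (res I L)) x (RefHull.Tensor.pair x e l) =
          RefHull.Tensor.pair x (RefHull.Tensor.pair x e (qx I x))
            (RefHull.Tensor.pair x l (qx I x)) :=
        (HomSheaf.Basic.stalkMap_tmap _ _ x e l).trans (congrArg₂
          (fun s t => RefHull.Tensor.pair x s t) (stalk_res' I x e) (stalk_res' I x l))
      have h2 : stalkMapₗ (tmap (𝟙 E) (res I L)) x (RefHull.Tensor.pair x e l) =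
          RefHull.Tensor.pair x e (RefHull.Tensor.pair x l (qx I x)) :=
        (HomSheaf.Basic.stalkMap_tmap _ _ x e l).trans (congrArg₂
          (fun s t => RefHull.Tensor.pair x s t) (LinearMap.congr_fun (stalkMapₗ_id x) e)
          (stalk_res' I x l))
      rw [LinearMap.comp_apply, h1, h2]
      simp [r, RefHull.Tensor.pair_apply, hμ, Q]
    rw [← hr, LinearMap.comp_apply, h0, map_zero]
  intro z hz
  exact (TopCat.Presheaf.section_ext
    (⟨_, Scheme.Modules.isSheaf _⟩ : TopCat.Sheaf Ab X) ⊤ z 0 fun x _ => (hz x).trans (map_zero _).symm)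

theorem inv_hom {M N : X.Modules} (e : M ≅ N) {U : X.Opens} (s : Γ(M, U)) :
    e.inv.app U (e.hom.app U s) = s :=
  congrArg (fun f : M ⟶ M => f.app U s) e.hom_inv_id

theorem mem_of_surjective (hE : FlatMod.IsFinLocFree E) (hL : FlatMod.IsFinLocFree L)
    (φ : CohB1.tensorMod L (_root_.ClSub.idealMod I) ≅ Coh.structureModule X)
    (h0 : Subsingleton (Ext.{u} (ZarCoh.Basic.Zs.obj (⊤ : X.Opens))
      (Coh.toAb (CohB1.tensorMod L (_root_.ClSub.idealMod I))) 1))
    (h1 : Subsingleton (Ext.{u} (ZarCoh.Basic.Zs.obj (⊤ : X.Opens))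
      (Coh.toAb (CohB1.tensorMod E (_root_.ClSub.idealMod I))) 1))
    (G : AddSubgroup Γ(CohB1.tensorMod E L, ⊤))
    (hG : ∀ (e : Γ(E, ⊤)) (l : Γ(L, ⊤)), tens e l ∈ G)
    (H : AddSubgroup Γ(CohB1.tensorMod (CohB1.tensorMod E (_root_.ClSub.quotMod I))
      (CohB1.tensorMod L (_root_.ClSub.quotMod I)), ⊤))
    (hH : ∀ K, (∀ e l, tens e l ∈ K) → H ≤ K) (hD : H = ⊤)
    (y : Γ(CohB1.tensorMod E L, ⊤)) : y ∈ G := by
  have hS := ClSub.Quot.idealSeq_shortExact I
  have surj : ∀ {M : X.Modules}, FlatMod.IsFinLocFree M →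
      Subsingleton (Ext.{u} (ZarCoh.Basic.Zs.obj (⊤ : X.Opens))
        (Coh.toAb (CohB1.tensorMod M (_root_.ClSub.idealMod I))) 1) →
      Function.Surjective ((res I M).app ⊤) := fun {M} hM h t => by
    obtain ⟨s, hs⟩ := CohDelta.SerreRel.app_surjective_of_h1 (tensorL_shortExact hM hS) ⊤ h t
    refine ⟨(rightUnit M).hom.app ⊤ s, ?_⟩
    show (tmap (𝟙 M) (_root_.ClSub.toSubscheme I)).app ⊤
      ((rightUnit M).inv.app ⊤ ((rightUnit M).hom.app ⊤ s)) = t
    rw [inv_hom]
    exact hs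
  let c := tmap (res I E) (res I L)
  obtain ⟨g, hg, hgy⟩ : ∃ g ∈ G, c.app ⊤ g = c.app ⊤ y := by
    have h := hH (G.map (c.app ⊤).hom) (fun e' l' => by
      obtain ⟨e, rfl⟩ := surj hE h1 e'
      obtain ⟨l, rfl⟩ := surj hL h0 l'
      exact ⟨tens e l, hG e l, tmap_tens _ _ _ _⟩)
    exact AddSubgroup.mem_map.1 (h (hD ▸ AddSubgroup.mem_top _))
  suffices h : y - g ∈ G by simpa using G.add_mem h hg
  have hz : (tmap (𝟙 E) (res I L)).app ⊤ (y - g) = 0 :=
    eq_zero_of_res I _ (by rw [map_sub, sub_eq_zero]; exact hgy.symm)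
  let z := (tmap (𝟙 E) (rightUnit L).inv).app ⊤ (y - g)
  have hz' : (tmap (𝟙 E) (tmap (𝟙 L) (_root_.ClSub.toSubscheme I))).app ⊤ z = 0 := by
    refine Eq.trans ?_ hz
    show _ = (tmap (𝟙 E) ((rightUnit L).inv ≫ tmap (𝟙 L) (_root_.ClSub.toSubscheme I))).app ⊤ (y - g)
    rw [show tmap (𝟙 E) ((rightUnit L).inv ≫ tmap (𝟙 L) (_root_.ClSub.toSubscheme I)) =
      tmap (𝟙 E) (rightUnit L).inv ≫ tmap (𝟙 E) (tmap (𝟙 L) (_root_.ClSub.toSubscheme I)) by
      rw [← tmap_comp, Category.comp_id]]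
    rfl
  have hT := tensorL_shortExact hE (tensorL_shortExact hL hS)
  haveI := hT.mono_f
  obtain ⟨w, hw⟩ := QCoh.Closure.sections_exact hT.exact ⊤ z hz'
  let τ : Γ(CohB1.tensorMod L (_root_.ClSub.idealMod I), ⊤) :=
    φ.inv.app ⊤ (TensorMod.Gen.one X ⊤)
  let v := (tmap (𝟙 E) φ.hom).app ⊤ w
  let e := (rightUnit E).hom.app ⊤ v
  have hv : tens e (TensorMod.Gen.one X ⊤) = v := by
    rw [← ProjKoszul.Surj.rightUnit_inv_app]
    exact inv_hom (rightUnit E) v
  have hwe : w = tens e τ := by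
    have h2 : (tmap (𝟙 E) φ.inv).app ⊤ v = w := inv_hom (tensorIso (Iso.refl E) φ) w
    rw [← h2, ← hv, tmap_tens]
    rfl
  have hyg : y - g = (tmap (𝟙 E) (rightUnit L).hom).app ⊤ z := by
    exact (inv_hom (tensorIso (Iso.refl E) (rightUnit L)).symm (y - g)).symm
  rw [hyg, ← hw, hwe]
  show (tmap (𝟙 E) (rightUnit L).hom).app ⊤
    ((tmap (𝟙 E) (tmap (𝟙 L) (_root_.ClSub.idealModι I))).app ⊤ (tens e τ)) ∈ G
  rw [tmap_tens, tmap_tens]
  exact hG _ _

end

end Groth.Agent.Lib.MulRestr27.Main
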